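import Cfsg.Agent.CommGraph.M11Graph
import Mathlib.GroupTheory.Index
import Mathlib.GroupTheory.GroupAction.Quotient

/-! The automorphism group of the commuting graph of the involutions has at most 7920 elements. -/

set_option autoImplicit false
set_option maxRecDepth 4000

namespace CfsgLib.M11Out

open CfsgLib.CommGraph.M11

/-- Is `w` a possible image of `v`, given the images in `m`? -/
def consB (m : List (Fin 165 × Fin 165)) (v w : Fin 165) : Bool :=
  m.all fun e => adjB w e.2 == adjB v e.1 && twoB w e.2 == twoB v e.1 && (decide (w = e.2) == decide (v = e.1))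

/-- No automorphism extends `m`, as seen on the vertices of the list. -/
def refB : List (Fin 165 × Fin 165) → List (Fin 165) → Bool
  | _, [] => false
  | m, v :: rest => (List.finRange 165).all fun w => !consB m v w || refB ((v, w) :: m) rest

theorem not_extends {σ : Equiv.Perm (Fin 165)} (hσ : σ ∈ autGraph) :
    ∀ (rest : List (Fin 165)) (m : List (Fin 165 × Fin 165)), refB m rest = true →
      (∀ e ∈ m, σ e.1 = e.2) → False := by
  intro rest
  induction rest with
  | nil => intro m h _; simp [refB] at h
  | cons v rest ih =>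
    intro m h hm
    rw [refB, List.all_eq_true] at h
    have h1 := h (σ v) (List.mem_finRange _)
    have hc : consB m v (σ v) = true := by
      rw [consB, List.all_eq_true]
      intro e he
      rw [← hm e he, hσ, twoB_map hσ]
      simp
    rw [hc, Bool.not_true, Bool.false_or] at h1
    refine ih _ h1 fun e he => ?_
    rcases List.mem_cons.1 he with rfl | he
    · rfl
    · exact hm e he

/-- The possible images of the third base point. -/
def goodL : List (Fin 165) := [5, 23, 32, 38]

theorem refute_spec : ((List.finRange 165).all fun w => !(farB 0 w && farB 49 w) || goodL.contains w ||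
    refB [(0, 0), (49, 49), (32, w)] [118, 51, 11]) = true := by decide +kernel

theorem image_mem {σ : Equiv.Perm (Fin 165)} (hσ : σ ∈ autGraph) (h0 : σ 0 = 0) (h1 : σ 49 = 49) :
    σ 32 ∈ goodL.toFinset := by
  have h := List.all_eq_true.1 refute_spec (σ 32) (List.mem_finRange _)
  obtain ⟨-, r2, r3⟩ := base_rel
  have e2 : farB 0 (σ 32) = true := by
    conv_lhs => rw [← h0]
    rw [farB, hσ, twoB_map hσ]; exact r2
  have e3 : farB 49 (σ 32) = true := by
    conv_lhs => rw [← h1]
    rw [farB, hσ, twoB_map hσ]; exact r3
  rw [e2, e3, Bool.and_self, Bool.not_true, Bool.false_or, Bool.or_eq_true] at h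
  rcases h with h | h
  · simpa using h
  · refine (not_extends hσ _ _ h fun e he => ?_).elim
    simp only [List.mem_cons, List.not_mem_nil, or_false] at he
    rcases he with rfl | rfl | rfl
    · exact h0
    · exact h1
    · rfl

theorem card_autGraph_le : Nat.card autGraph ≤ 7920 := by
  classical
  let P : Finset (Fin 165 × Fin 165) :=
    (Finset.univ : Finset (Fin 165)).biUnion fun a => (Finset.univ.filter fun c => adjB a c).image fun c => (a, c)
  have hP : P.card ≤ 165 * 12 :=
    (Finset.card_biUnion_le_card_mul _ _ 12 fun a _ =>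
      Finset.card_image_le.trans ((card_filter_le _).trans (count_adj a))).trans_eq (by simp)
  let f : autGraph → Fin 165 × Fin 165 := fun σ => (σ.1 0, σ.1 49)
  have hfib : ∀ a ∈ P, ((Finset.univ : Finset autGraph).filter fun σ => f σ = a).card ≤ 4 := by
    intro a _
    rcases ((Finset.univ : Finset autGraph).filter fun σ => f σ = a).eq_empty_or_nonempty with h | ⟨τ, hτ⟩
    · rw [h]; simp
    have hτ' := (Finset.mem_filter.1 hτ).2
    refine (Finset.card_le_card_of_injOn (fun σ : autGraph => (τ⁻¹ * σ).1 32) (t := goodL.toFinset) ?_ ?_).trans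
      ((List.toFinset_card_le _).trans_eq rfl)
    · intro σ hσ
      have h := congrArg id ((Finset.mem_filter.1 hσ).2.trans hτ'.symm)
      simp only [id, f, Prod.mk.injEq] at h
      refine image_mem (τ⁻¹ * σ).2 ?_ ?_
      · show τ.1⁻¹ (σ.1 0) = 0
        rw [h.1, Equiv.Perm.inv_def, Equiv.symm_apply_apply]
      · show τ.1⁻¹ (σ.1 49) = 49
        rw [h.2, Equiv.Perm.inv_def, Equiv.symm_apply_apply]
    · intro σ hσ σ' hσ' e
      have h := (Finset.mem_filter.1 hσ).2.trans (Finset.mem_filter.1 hσ').2.symm
      simp only [f, Prod.mk.injEq] at h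
      have e' : σ.1 32 = σ'.1 32 := τ.1⁻¹.injective e
      refine Subtype.ext (inv_mul_eq_one.1 (eq_one_of_fix (mul_mem (inv_mem σ.2) σ'.2) ?_ ?_ ?_))
      all_goals rw [Equiv.Perm.mul_apply, Equiv.Perm.inv_def, Equiv.symm_apply_eq]
      · exact h.1.symm
      · exact h.2.symm
      · exact e'.symm
  have := Finset.card_le_mul_card_image_of_maps_to (f := f) (s := (Finset.univ : Finset autGraph)) (t := P)
    (fun σ _ => by
      simp only [P, f, Finset.mem_biUnion, Finset.mem_image, Finset.mem_filter, Finset.mem_univ, true_and]
      exact ⟨_, _, (σ.2 0 49).trans base_rel.1, rfl⟩) 4 hfib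
  rw [Nat.card_eq_fintype_card, ← Finset.card_univ]
  omega

end CfsgLib.M11Out
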