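import Cfsg.Agent.CommGraph.M11
import Cfsg.Agent.M11Out.GraphExact
import Cfsg.Prelude.Def_KGroupFacts

/-! Every automorphism of the Mathieu group on eleven points is inner. -/

set_option autoImplicit false
set_option maxRecDepth 4000

namespace CfsgLib.M11Out

open CfsgLib.CommGraph.M11 CfsgLib.Golay

attribute [local irreducible] vert vList

/-- An automorphism preserves commutation. -/
def autPerm : MulAut M →* CfsgLib.CommGraph.commPerm M :=
  (MulAut.toPerm M).codRestrict _ fun φ =>
    ⟨map_one φ, fun a b => ⟨fun h => φ.injective (((map_mul φ a b).trans (show φ a * φ b = φ b * φ a from h.eq)).trans (map_mul φ b a).symm), fun h => h.map φ⟩⟩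

theorem closure_vert : Subgroup.closure (Set.range vert) = ⊤ := by
  haveI := isSimple_M11
  haveI : (Subgroup.closure (Set.range vert)).Normal := by
    refine ⟨fun n hn g => ?_⟩
    suffices h : Subgroup.closure (Set.range vert) ≤
        (Subgroup.closure (Set.range vert)).comap (MulAut.conj g).toMonoidHom from h hn
    rw [Subgroup.closure_le]
    rintro _ ⟨i, rfl⟩
    obtain ⟨j, hj⟩ := exists_vert_of_isConj ((vert_conj i).trans (isConj_iff.2 ⟨g, rfl⟩))
    exact Subgroup.subset_closure ⟨j, hj⟩
  refine (Subgroup.Normal.eq_bot_or_eq_top inferInstance).resolve_left fun h => ?_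
  have := Subgroup.subset_closure (k := Set.range vert) ⟨0, rfl⟩
  rw [h, SetLike.mem_coe, Subgroup.mem_bot] at this
  exact vert_ne_one 0 this

theorem autPerm_injective : Function.Injective (vHom.comp autPerm) := by
  refine (injective_iff_map_eq_one _).2 fun φ hφ => ?_
  have h : ∀ i, φ (vert i) = vert i := fix_of_vHom_eq_one (σ := autPerm φ) hφ
  refine MulEquiv.toMonoidHom_injective (MonoidHom.eq_of_eqOn_dense closure_vert ?_)
  rintro _ ⟨i, rfl⟩
  exact h i

theorem card_out : Nat.card (Cfsg.Out M) = 1 := by
  have h1 : Nat.card (MulAut M) ≤ 7920 :=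
    (Nat.card_le_card_of_injective _ autPerm_injective).trans card_autGraph_le
  have hcomp : vHom.comp (autPerm.comp MulAut.conj) = vHom.comp conjPerm := rfl
  have hinj : Function.Injective (MulAut.conj : M →* MulAut M) := fun a b h => by
    refine vHom_conjPerm_injective ?_
    rw [← hcomp]
    simp only [MonoidHom.comp_apply, h]
  have h2 : Nat.card (Cfsg.Inn M) = 7920 := by
    rw [← card_M11]
    exact (Nat.card_congr (MonoidHom.ofInjective hinj).toEquiv).symm
  have hmul := (Cfsg.Inn M).card_mul_index
  rw [h2] at hmul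
  have hpos : 0 < (Cfsg.Inn M).index := Nat.pos_of_ne_zero Subgroup.FiniteIndex.index_ne_zero
  show (Cfsg.Inn M).index = 1
  nlinarith

end CfsgLib.M11Out
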